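import Mathlib.GroupTheory.PGroup
import Mathlib.GroupTheory.Coset.Card
import Mathlib.Combinatorics.Enumerative.DoubleCounting
import Mathlib.Data.Fintype.BigOperators
import Mathlib.Algebra.Group.End
import Mathlib.Algebra.BigOperators.Ring.Nat
import Mathlib.Algebra.Order.BigOperators.Group.Finset
import Mathlib.GroupTheory.QuotientGroup.Basic
import Mathlib.Tactic.Linarith

/-!
# A two-group preserving an anisotropic square map

`V` and `A` are elementary abelian two-groups, `|V| ≤ |A| ^ 2`, `f : V → A` has biadditive defect and no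
non-trivial zero, and automorphisms permuting the action carry each non-trivial element of `A` to each other.
A two-group preserving `f` and acting through an elementary abelian group has no two different non-trivial
elements in its image.
-/

set_option autoImplicit false
set_option linter.style.haveILetI false

namespace CfsgLib.SECrit.Shape

/-- The defect of `f`. -/
def defect {V A : Type*} [Mul V] [Mul A] (f : V → A) (v w : V) : A := f (v * w) * f v * f w

theorem card_two_pow_of_sq {V : Type*} [Group V] [Finite V] (hV : ∀ v : V, v * v = 1) (W : Subgroup V) :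
    ∃ k : ℕ, Nat.card W = 2 ^ k :=
  IsPGroup.iff_card.1 fun v => ⟨1, Subtype.ext (by rw [pow_one, pow_two]; exact hV v)⟩

variable {V A Γ : Type*} [Group V] [Finite V] [Group A] [Finite A] [Group Γ] {ρ : Γ →* MulAut V} {f : V → A}

/-- A subgroup invariant under enough automorphisms has order `1` modulo `|A| - 1`. -/
theorem dvd_card_sub_one (hzero : ∀ v, f v = 1 → v = 1) (h1 : f 1 = 1)
    (W : Subgroup V)
    (htrans : ∀ e e' : A, e ≠ 1 → e' ≠ 1 → ∃ (σ : V ≃* V) (τ : A ≃* A), (∀ v, f (σ v) = τ (f v)) ∧ τ e = e' ∧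
      ∀ v ∈ W, σ v ∈ W) :
    ∃ u : ℕ, Nat.card W = u * (Nat.card A - 1) + 1 ∧
      ∀ e : A, e ≠ 1 → Nat.card {v : W // f v = e} = u := by
  classical
  by_cases hA : ∃ e : A, e ≠ 1
  · obtain ⟨e₀, he₀⟩ := hA
    refine ⟨Nat.card {v : W // f v = e₀}, ?_, fun e he => ?_⟩
    · haveI : Fintype A := Fintype.ofFinite A
      haveI : Fintype W := Fintype.ofFinite W
      have hcard : ∀ e : A, e ≠ 1 → Fintype.card {v : W // f v = e} = Fintype.card {v : W // f v = e₀} := by
        intro e he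
        obtain ⟨σ, τ, hσ, hτ, hW⟩ := htrans e₀ e he₀ he
        obtain ⟨σ', τ', hσ', hτ', hW'⟩ := htrans e e₀ he he₀
        apply le_antisymm
        · refine Fintype.card_le_of_injective (fun v => ⟨⟨σ' v.1, hW' _ v.1.2⟩, by rw [hσ', v.2, hτ']⟩) ?_
          intro v w hvw
          exact Subtype.ext (Subtype.ext (σ'.injective (congrArg (fun z : {v : W // f v = e₀} => (z.1 : V)) hvw)))
        · refine Fintype.card_le_of_injective (fun v => ⟨⟨σ v.1, hW _ v.1.2⟩, by rw [hσ, v.2, hτ]⟩) ?_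
          intro v w hvw
          exact Subtype.ext (Subtype.ext (σ.injective (congrArg (fun z : {v : W // f v = e} => (z.1 : V)) hvw)))
      have hone : Fintype.card {v : W // f v = 1} = 1 := by
        refine Fintype.card_eq_one_iff.2 ⟨⟨1, h1⟩, fun v => Subtype.ext (Subtype.ext (hzero _ v.2))⟩
      rw [Nat.card_eq_fintype_card, Nat.card_eq_fintype_card, Nat.card_eq_fintype_card,
        ← Fintype.card_congr (Equiv.sigmaFiberEquiv fun v : W => f v), Fintype.card_sigma,
        ← Finset.sum_erase_add _ _ (Finset.mem_univ (1 : A)), hone,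
        Finset.sum_congr rfl fun e he => hcard e (Finset.ne_of_mem_erase he), Finset.sum_const,
        Finset.card_erase_of_mem (Finset.mem_univ _), Finset.card_univ, smul_eq_mul, mul_comm]
    · obtain ⟨σ, τ, hσ, hτ, hW⟩ := htrans e₀ e he₀ he
      obtain ⟨σ', τ', hσ', hτ', hW'⟩ := htrans e e₀ he he₀
      apply le_antisymm
      · refine Nat.card_le_card_of_injective (fun v => (⟨⟨σ' v.1, hW' _ v.1.2⟩, by rw [hσ', v.2, hτ']⟩ :
          {v : W // f v = e₀})) ?_
        intro v w hvw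
        exact Subtype.ext (Subtype.ext (σ'.injective (congrArg (fun z : {v : W // f v = e₀} => (z.1 : V)) hvw)))
      · refine Nat.card_le_card_of_injective (fun v => (⟨⟨σ v.1, hW _ v.1.2⟩, by rw [hσ, v.2, hτ]⟩ :
          {v : W // f v = e})) ?_
        intro v w hvw
        exact Subtype.ext (Subtype.ext (σ.injective (congrArg (fun z : {v : W // f v = e} => (z.1 : V)) hvw)))
  · push Not at hA
    refine ⟨0, ?_, fun e he => absurd (hA e) he⟩
    rw [zero_mul, zero_add, Nat.card_eq_one_iff_unique]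
    exact ⟨⟨fun v w => Subtype.ext (by rw [hzero v.1 (hA _), hzero w.1 (hA _)])⟩, ⟨1⟩⟩

/-- The elements moved only inside `W`. -/
def rise (ρ : Γ →* MulAut V) (W : Subgroup V) (hc : ∀ a b : V, a * b = b * a) : Subgroup V where
  carrier := {v | ∀ g, ρ g v * v ∈ W}
  one_mem' g := by rw [map_one, mul_one]; exact W.one_mem
  mul_mem' {a b} ha hb g := by
    rw [map_mul]
    have e : ρ g a * ρ g b * (a * b) = (ρ g a * a) * (ρ g b * b) := by
      rw [mul_assoc, mul_assoc]; congr 1; rw [← mul_assoc, hc (ρ g b) a, mul_assoc]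
    rw [e]; exact W.mul_mem (ha g) (hb g)
  inv_mem' {a} ha g := by
    rw [map_inv, ← mul_inv_rev, hc a]
    exact W.inv_mem (ha g)

/-- **No two different non-trivial elements in the image.** -/
theorem no_two_in_image (hV : ∀ v : V, v * v = 1) (hA : ∀ e : A, e * e = 1) (hA4 : 4 ≤ Nat.card A)
    (hle : Nat.card V ≤ Nat.card A ^ 2) (hzero : ∀ v, f v = 1 → v = 1)
    (hB : ∀ u v w, defect f (u * v) w = defect f u w * defect f v w)
    (hΓ : IsPGroup 2 Γ) (hf : ∀ g v, f (ρ g v) = f v)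
    (htrans : ∀ e e' : A, e ≠ 1 → e' ≠ 1 → ∃ (σ : V ≃* V) (τ : A ≃* A), (∀ v, f (σ v) = τ (f v)) ∧ τ e = e' ∧
      (∀ h : Γ, ∃ g : Γ, ∀ v, ρ h (σ v) = σ (ρ g v)) ∧ ∀ g : Γ, ∃ h : Γ, ∀ v, ρ h (σ v) = σ (ρ g v))
    {g₁ g₂ : Γ} (hg₁ : ρ g₁ ≠ 1) (hg₂ : ρ g₂ ≠ 1) (hg₁₂ : ρ (g₁ * g₂) ≠ 1) : False := by
  classical
  haveI : Fintype V := Fintype.ofFinite V
  haveI : Fintype A := Fintype.ofFinite A
  haveI : Fact (Nat.Prime 2) := ⟨Nat.prime_two⟩
  have hc : ∀ a b : V, a * b = b * a := fun a b => by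
    have inv : ∀ c : V, c⁻¹ = c := fun c => inv_eq_of_mul_eq_one_right (hV c)
    calc a * b = (a * b)⁻¹ := (inv _).symm
      _ = b * a := by rw [mul_inv_rev, inv, inv]
  have hAc : ∀ a b : A, a * b = b * a := fun a b => by
    have inv : ∀ c : A, c⁻¹ = c := fun c => inv_eq_of_mul_eq_one_right (hA c)
    calc a * b = (a * b)⁻¹ := (inv _).symm
      _ = b * a := by rw [mul_inv_rev, inv, inv]
  set q := Nat.card A with hq
  -- the defect
  have h1 : f 1 = 1 := by
    have := hB 1 1 1
    simp only [defect, mul_one, hA, one_mul] at this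
    exact this
  have hBsymm : ∀ v w, defect f v w = defect f w v := fun v w => by
    simp only [defect, hc v w, mul_assoc, hAc (f v) (f w)]
  have hfmul : ∀ v w, f (v * w) = f v * f w * defect f v w := fun v w => by
    have e : ∀ a b c : A, a = b * c * (a * b * c) := fun a b c => by
      rw [mul_assoc a b c, ← mul_assoc (b * c) a, hAc (b * c) a, mul_assoc, hA, mul_one]
    exact e _ _ _
  have hB' : ∀ u v w, defect f w (u * v) = defect f w u * defect f w v := fun u v w => by
    rw [hBsymm w, hB, hBsymm u, hBsymm v]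
  have hB1 : ∀ w, defect f 1 w = 1 := fun w => by simp [defect, h1, hA]
  have hinvV : ∀ v : V, v⁻¹ = v := fun v => inv_eq_of_mul_eq_one_right (hV v)
  -- the fixed elements
  let W : Subgroup V := rise ρ ⊥ hc
  have memW : ∀ {v : V}, v ∈ W ↔ ∀ g, ρ g v = v := by
    intro v
    refine ⟨fun h g => ?_, fun h g => ?_⟩
    · have h2 : ρ g v * v = 1 := Subgroup.mem_bot.1 (h g)
      rw [eq_inv_of_mul_eq_one_left h2, hinvV]
    · show ρ g v * v ∈ (⊥ : Subgroup V)
      rw [h g, hV]; exact Subgroup.one_mem _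
  have hWσ : ∀ e e' : A, e ≠ 1 → e' ≠ 1 → ∃ (σ : V ≃* V) (τ : A ≃* A), (∀ v, f (σ v) = τ (f v)) ∧ τ e = e' ∧
      ∀ v ∈ W, σ v ∈ W := fun e e' he he' => by
    obtain ⟨σ, τ, hσ, hτ, hg, hg₃⟩ := htrans e e' he he'
    refine ⟨σ, τ, hσ, hτ, fun v hv => memW.2 fun h => ?_⟩
    obtain ⟨g, hg⟩ := hg h
    rw [hg, memW.1 hv g]
  obtain ⟨u, hWc, hWu⟩ := dvd_card_sub_one hzero h1 W hWσ
  obtain ⟨n, hVc, hVn⟩ := dvd_card_sub_one hzero h1 (⊤ : Subgroup V) fun e e' he he' => by
    obtain ⟨σ, τ, hσ, hτ, -⟩ := htrans e e' he he'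
    exact ⟨σ, τ, hσ, hτ, fun v _ => Subgroup.mem_top _⟩
  rw [Subgroup.card_top, ← hq] at hVc
  rw [← hq] at hWc
  have hWne : W ≠ ⊤ := fun e => hg₁ (MulEquiv.ext fun v => memW.1 (e ▸ Subgroup.mem_top v) g₁)
  have hVnontriv : 2 ≤ Nat.card V := by
    refine (Finite.one_lt_card_iff_nontrivial (α := V)).2 ?_
    by_contra hsub
    rw [not_nontrivial_iff_subsingleton] at hsub
    exact hg₁ (MulEquiv.ext fun v => Subsingleton.elim _ _)
  have hevV : Even (Nat.card V) := by
    obtain ⟨k, hk⟩ := card_two_pow_of_sq hV (⊤ : Subgroup V)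
    rw [Subgroup.card_top] at hk
    rcases k with - | k
    · omega
    · rw [hk, pow_succ, mul_comm]; exact even_two_mul _
  -- a fixed element in each fibre
  have hu : 1 ≤ u := by
    obtain ⟨e, he⟩ : ∃ e : A, e ≠ 1 := by
      haveI : Nontrivial A := Finite.one_lt_card_iff_nontrivial.1 (by omega)
      exact exists_ne 1
    letI act : MulAction Γ {v : V // f v = e} :=
      { smul := fun g v => ⟨ρ g v.1, by rw [hf, v.2]⟩
        one_smul := fun v => Subtype.ext (by show ρ 1 v.1 = v.1; rw [map_one]; rfl)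
        mul_smul := fun g h v => Subtype.ext (by show ρ (g * h) v.1 = ρ g (ρ h v.1); rw [map_mul]; rfl) }
    have hn : Nat.card {v : V // f v = e} = n := by
      rw [← hVn e he]
      exact Nat.card_congr
        { toFun := fun v => ⟨⟨v.1, Subgroup.mem_top _⟩, v.2⟩
          invFun := fun v => ⟨v.1.1, v.2⟩
          left_inv := fun _ => rfl
          right_inv := fun _ => rfl }
    have hnodd : ¬ 2 ∣ Nat.card {v : V // f v = e} := fun h2 => by
      rw [hn] at h2
      have : Even (Nat.card V - 1) := by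
        rw [hVc, Nat.add_sub_cancel]
        exact (even_iff_two_dvd.2 h2).mul_right _
      obtain ⟨a, ha⟩ := hevV; obtain ⟨b, hb⟩ := this; omega
    obtain ⟨v, hv⟩ := hΓ.nonempty_fixed_point_of_prime_not_dvd_card {v : V // f v = e} hnodd
    rw [← hWu e he]
    exact Finite.card_pos_iff.2 ⟨⟨⟨v.1, memW.2 fun g => congrArg Subtype.val (hv g)⟩, v.2⟩⟩
  -- both the fixed group and its index are `q`
  have hidx := Subgroup.card_eq_card_quotient_mul_card_subgroup W
  have hi1 : 2 ≤ Nat.card (V ⧸ W) := by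
    refine (Finite.one_lt_card_iff_nontrivial (α := V ⧸ W)).2 ?_
    by_contra hsub
    rw [not_nontrivial_iff_subsingleton, QuotientGroup.subsingleton_iff] at hsub
    exact hWne hsub
  have hgeW : q ≤ Nat.card W := by
    have : 1 * (q - 1) ≤ u * (q - 1) := Nat.mul_le_mul_right _ hu
    omega
  have hgeI : q ≤ Nat.card (V ⧸ W) := by
    by_contra hlt
    push Not at hlt
    have hmod : Nat.card V ≡ 1 [MOD q - 1] := by
      rw [hVc]; exact (Nat.modEq_iff_dvd' (by omega)).2 ⟨n, by rw [Nat.add_sub_cancel, mul_comm]⟩ |>.symm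
    have hmodW : Nat.card W ≡ 1 [MOD q - 1] := by
      rw [hWc]; exact (Nat.modEq_iff_dvd' (by omega)).2 ⟨u, by rw [Nat.add_sub_cancel, mul_comm]⟩ |>.symm
    have h2 : Nat.card (V ⧸ W) ≡ 1 [MOD q - 1] := by
      have := (Nat.ModEq.refl (Nat.card (V ⧸ W))).mul hmodW
      rw [← hidx, mul_one] at this
      exact this.symm.trans hmod
    obtain ⟨d, hd⟩ := (Nat.modEq_iff_dvd' (by omega)).1 h2.symm
    rcases d with - | d
    · omega
    · have : q - 1 ≤ (q - 1) * (d + 1) := Nat.le_mul_of_pos_right _ (by omega)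
      omega
  have hWq : Nat.card W = q := by
    by_contra hne
    have : q * (q + 1) ≤ Nat.card (V ⧸ W) * Nat.card W := Nat.mul_le_mul hgeI (by omega)
    rw [← hidx] at this
    nlinarith
  have hIq : Nat.card (V ⧸ W) = q := by
    by_contra hne
    have : (q + 1) * q ≤ Nat.card (V ⧸ W) * Nat.card W := Nat.mul_le_mul (by omega) hgeW
    rw [← hidx] at this
    nlinarith
  have hu1 : u = 1 := by
    have : u * (q - 1) = 1 * (q - 1) := by omega
    exact Nat.eq_of_mul_eq_mul_right (by omega) this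
  have huniq : ∀ w w' : V, w ∈ W → w' ∈ W → w ≠ 1 → f w = f w' → w = w' := by
    intro w w' hw hw' hw1 he
    have hfne : f w ≠ 1 := fun e => hw1 (hzero w e)
    haveI := (Nat.card_eq_one_iff_unique.1 ((hWu (f w) hfne).trans hu1)).1
    exact congrArg Subtype.val (congrArg Subtype.val
      (Subsingleton.elim (⟨⟨w, hw⟩, rfl⟩ : {v : W // f v = f w}) ⟨⟨w', hw'⟩, he.symm⟩))
  -- everything moves only inside `W`
  have hrise : rise ρ W hc = ⊤ := by
    have hWinv : ∀ g, W ≤ W.comap (ρ g).toMonoidHom := fun g v hv => by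
      show ρ g v ∈ W
      rwa [memW.1 hv g]
    haveI hnormW : W.Normal := ⟨fun v hv c => by rw [hc c v, mul_assoc, mul_inv_cancel, mul_one]; exact hv⟩
    letI act : MulAction Γ (V ⧸ W) :=
      { smul := fun g ξ => QuotientGroup.map W W (ρ g).toMonoidHom (hWinv g) ξ
        one_smul := fun ξ => by
          induction ξ using QuotientGroup.induction_on with
          | H v => show ((ρ 1 v : V) : V ⧸ W) = _; rw [map_one]; rfl
        mul_smul := fun g h ξ => by
          induction ξ using QuotientGroup.induction_on with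
          | H v => show ((ρ (g * h) v : V) : V ⧸ W) = ((ρ g (ρ h v) : V) : V ⧸ W); rw [map_mul]; rfl }
    have h2 : 2 ∣ Nat.card (V ⧸ W) := by
      obtain ⟨k, hk⟩ := card_two_pow_of_sq hV (⊤ : Subgroup V)
      rw [Subgroup.card_top] at hk
      obtain ⟨j, -, hj⟩ := (Nat.dvd_prime_pow Nat.prime_two).1 (hk ▸ Dvd.intro _ hidx.symm : Nat.card (V ⧸ W) ∣ 2 ^ k)
      rcases j with - | j
      · omega
      · exact ⟨2 ^ j, by rw [hj, pow_succ, mul_comm]⟩
    have hfix1 : (1 : V ⧸ W) ∈ MulAction.fixedPoints Γ (V ⧸ W) := fun g => map_one _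
    obtain ⟨ξ, hξ, hne⟩ := hΓ.exists_fixed_point_of_prime_dvd_card_of_fixed_point (V ⧸ W) h2 hfix1
    obtain ⟨v, rfl⟩ := QuotientGroup.mk_surjective ξ
    have hv : v ∈ rise ρ W hc := fun g => by
      have h3 := QuotientGroup.eq.1 (hξ g)
      change (ρ g v)⁻¹ * v ∈ W at h3
      rwa [hinvV] at h3
    have hvW : v ∉ W := fun h => hne ((QuotientGroup.eq_one_iff v).2 h).symm
    obtain ⟨u₂, hu₂, -⟩ := dvd_card_sub_one hzero h1 (rise ρ W hc) fun e e' he he' => by
      obtain ⟨σ, τ, hσ, hτ, hg, hg₃⟩ := htrans e e' he he'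
      refine ⟨σ, τ, hσ, hτ, fun v hv h => ?_⟩
      obtain ⟨g, hg'⟩ := hg h
      rw [hg', ← map_mul]
      refine memW.2 fun k => ?_
      obtain ⟨k', hk'⟩ := hg k
      rw [hk', memW.1 (hv g) k']
    rw [← hq] at hu₂
    obtain ⟨j, hj⟩ : Nat.card W ∣ Nat.card (rise ρ W hc) :=
      Subgroup.card_dvd_of_le fun w hw h => by rw [memW.1 hw h, hV]; exact W.one_mem
    have hlt : Nat.card W < Nat.card (rise ρ W hc) := by
      by_contra hnl
      push Not at hnl
      exact hvW (by rw [Subgroup.eq_of_le_of_card_ge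
        (fun w hw h => by rw [memW.1 hw h, hV]; exact W.one_mem : W ≤ rise ρ W hc) hnl]; exact hv)
    refine Subgroup.eq_top_of_card_eq _ ?_
    have hmod : Nat.card (rise ρ W hc) ≡ 1 [MOD q - 1] := by
      rw [hu₂]; exact ((Nat.modEq_iff_dvd' (by omega)).2 ⟨u₂, by rw [Nat.add_sub_cancel, mul_comm]⟩).symm
    have hjq : q ≤ j := by
      by_contra hj'
      push Not at hj'
      have h2j : 2 ≤ j := by
        rcases j with - | - | j
        · rw [mul_zero] at hj; omega
        · rw [zero_add, mul_one] at hj; omega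
        · omega
      have hmj : j ≡ 1 [MOD q - 1] := by
        have hq1 : q ≡ 1 [MOD q - 1] := ((Nat.modEq_iff_dvd' (by omega)).2 ⟨1, by rw [mul_one]⟩).symm
        have := hq1.mul (Nat.ModEq.refl j)
        rw [one_mul, ← hWq, ← hj, hWq] at this
        exact this.symm.trans hmod
      obtain ⟨d, hd⟩ := (Nat.modEq_iff_dvd' (by omega)).1 hmj.symm
      rcases d with - | d
      · omega
      · have : q - 1 ≤ (q - 1) * (d + 1) := Nat.le_mul_of_pos_right _ (by omega)
        omega
    apply le_antisymm (Subgroup.card_le_card_group _)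
    rw [hidx, hj, hIq, hWq]
    exact Nat.mul_le_mul_left _ hjq
  have hN : ∀ g v, ρ g v * v ∈ W := fun g v => (hrise ▸ Subgroup.mem_top v : v ∈ rise ρ W hc) g
  have hBρ : ∀ g v w, defect f (ρ g v) (ρ g w) = defect f v w := fun g v w => by
    simp only [defect]; rw [← map_mul, hf, hf, hf]
  have hBN : ∀ g v, defect f (ρ g v * v) v = f (ρ g v * v) := fun g v => by
    simp only [defect]
    rw [show ρ g v * v * v = ρ g v by rw [mul_assoc, hV, mul_one], hf, hAc (f v) (f (ρ g v * v)), mul_assoc,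
      hA, mul_one]
  have hBNW : ∀ g v, ∀ w ∈ W, defect f (ρ g v * v) w = 1 := fun g v w hw => by
    rw [hB]
    nth_rw 1 [← memW.1 hw g]
    rw [hBρ, hA]
  -- every non-trivial fixed element is a movement
  have hmovers : ∀ w ∈ W, w ≠ 1 → ∃ g v, ρ g v * v = w := by
    intro w hw hw1
    obtain ⟨v₀, hv₀⟩ : ∃ v, ρ g₁ v ≠ v := by
      by_contra hall
      push Not at hall
      exact hg₁ (MulEquiv.ext hall)
    have hn0 : ρ g₁ v₀ * v₀ ≠ 1 := fun e => hv₀ (by rw [eq_inv_of_mul_eq_one_left e, hinvV])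
    obtain ⟨σ, τ, hσ, hτ, hg, hg₃⟩ := htrans (f (ρ g₁ v₀ * v₀)) (f w) (fun e => hn0 (hzero _ e))
      (fun e => hw1 (hzero _ e))
    have hσW : σ (ρ g₁ v₀ * v₀) ∈ W := memW.2 fun h => by
      obtain ⟨g, hg'⟩ := hg h
      rw [hg', memW.1 (hN g₁ v₀) g]
    have hw' : σ (ρ g₁ v₀ * v₀) = w :=
      huniq _ _ hσW hw (fun e => hn0 (σ.injective (e.trans (map_one σ).symm))) (by rw [hσ, hτ])
    obtain ⟨g', hg'⟩ := hg₃ g₁
    exact ⟨g', σ v₀, by rw [hg', ← map_mul, hw']⟩
  have hBW : ∀ w ∈ W, ∀ w' ∈ W, defect f w w' = 1 := fun w hw w' hw' => by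
    rcases eq_or_ne w 1 with rfl | hw1
    · exact hB1 w'
    · obtain ⟨g, v, rfl⟩ := hmovers w hw hw1
      exact hBNW g v w' hw'
  have hfW : ∀ w ∈ W, ∀ w' ∈ W, f (w * w') = f w * f w' := fun w hw w' hw' => by
    rw [hfmul, hBW w hw w' hw', mul_one]
  -- the pairing of the quotient with `W`
  haveI hnormW : W.Normal := ⟨fun v hv c => by rw [hc c v, mul_assoc, mul_inv_cancel, mul_one]; exact hv⟩
  let β : W → (V →* A) := fun n =>
    { toFun := fun v => defect f v (n : V)
      map_one' := hB1 _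
      map_mul' := fun u v => hB u v n }
  have hβ : ∀ n : W, W ≤ (β n).ker := fun n w hw => hBW w hw n n.2
  let ψ : W → (V ⧸ W →* A) := fun n => QuotientGroup.lift W (β n) (hβ n)
  have hψ : ∀ (n : W) (v : V), ψ n (v : V ⧸ W) = defect f v (n : V) := fun n v => rfl
  have hψmul : ∀ (n n' : W) (ξ : V ⧸ W), ψ (n * n') ξ = ψ n ξ * ψ n' ξ := fun n n' ξ => by
    induction ξ using QuotientGroup.induction_on with
    | H v => rw [hψ, hψ, hψ]; exact hB' _ _ _
  have hψone : ∀ ξ : V ⧸ W, ψ 1 ξ = 1 := fun ξ => by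
    induction ξ using QuotientGroup.induction_on with
    | H v => rw [hψ, Subgroup.coe_one, hBsymm, hB1]
  let K : V ⧸ W → Subgroup W := fun ξ =>
    { carrier := {n | ψ n ξ = f (n : V)}
      one_mem' := by show ψ 1 ξ = f ((1 : W) : V); rw [hψone, Subgroup.coe_one, h1]
      mul_mem' := fun {a b} ha hb => by
        show ψ (a * b) ξ = f ((a * b : W) : V)
        rw [hψmul, Subgroup.coe_mul, hfW _ a.2 _ b.2, ha, hb]
      inv_mem' := fun {a} ha => by
        show ψ a⁻¹ ξ = f ((a⁻¹ : W) : V)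
        rw [show a⁻¹ = a from Subtype.ext (hinvV _)]; exact ha }
  have hmem : ∀ (g : Γ) (v : V), (⟨ρ g v * v, hN g v⟩ : W) ∈ K (v : V ⧸ W) := fun g v => by
    show ψ _ (v : V ⧸ W) = f (ρ g v * v)
    rw [hψ, hBsymm, hBN]
  have hmovne : ∀ v, v ∉ W → ∃ g, ρ g v * v ≠ 1 := fun v hv => by
    by_contra hall
    push Not at hall
    exact hv (memW.2 fun g => by rw [eq_inv_of_mul_eq_one_left (hall g), hinvV])
  haveI : Fintype W := Fintype.ofFinite W
  haveI : Fintype (V ⧸ W) := Fintype.ofFinite _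
  set s := (Finset.univ : Finset (V ⧸ W)).erase 1 with hs
  set t := (Finset.univ : Finset W).erase 1 with ht
  let r : V ⧸ W → W → Prop := fun ξ n => ψ n ξ = f (n : V)
  have hs_card : s.card = q - 1 := by
    rw [hs, Finset.card_erase_of_mem (Finset.mem_univ _), Finset.card_univ, ← Nat.card_eq_fintype_card, hIq]
  have ht_card : t.card = q - 1 := by
    rw [ht, Finset.card_erase_of_mem (Finset.mem_univ _), Finset.card_univ, ← Nat.card_eq_fintype_card, hWq]
  have habove : ∀ ξ : V ⧸ W, (t.bipartiteAbove r ξ).card + 1 = Nat.card (K ξ) := fun ξ => by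
    have h1m : (1 : W) ∈ Finset.univ.filter (fun n : W => r ξ n) :=
      Finset.mem_filter.2 ⟨Finset.mem_univ _, (K ξ).one_mem⟩
    have e : t.bipartiteAbove r ξ = (Finset.univ.filter fun n : W => r ξ n).erase 1 := by
      ext n; simp [Finset.bipartiteAbove, ht, and_comm]
    rw [e, Finset.card_erase_add_one h1m, Nat.card_eq_fintype_card, Fintype.card_subtype]
    rfl
  have hodd : ∀ ξ ∈ s, Odd (t.bipartiteAbove r ξ).card := fun ξ hξ => by
    obtain ⟨v, rfl⟩ := QuotientGroup.mk_surjective ξ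
    have hv : v ∉ W := fun h => Finset.ne_of_mem_erase hξ ((QuotientGroup.eq_one_iff v).2 h)
    obtain ⟨g, hg⟩ := hmovne v hv
    obtain ⟨k, hk⟩ := card_two_pow_of_sq (fun n : W => Subtype.ext (hV n.1)) (K (v : V ⧸ W))
    rcases k with - | k
    · rw [pow_zero, Subgroup.card_eq_one] at hk
      have := hmem g v
      rw [hk, Subgroup.mem_bot] at this
      exact absurd (congrArg Subtype.val this) hg
    · rw [← habove, pow_succ] at hk
      exact ⟨2 ^ k - 1, by have := Nat.one_le_two_pow (n := k); omega⟩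
  have hbelowne : ∀ n ∈ t, ∃ ξ, r ξ n := fun n hn => by
    obtain ⟨g, v, hgv⟩ := hmovers n n.2 (fun e => Finset.ne_of_mem_erase hn (Subtype.ext e))
    exact ⟨(v : V ⧸ W), by
      have := hmem g v
      rwa [show (⟨ρ g v * v, hN g v⟩ : W) = n from Subtype.ext hgv] at this⟩
  have hbelow : ∀ n ∈ t, (s.bipartiteBelow r n).card = Nat.card (ψ n).ker := fun n hn => by
    obtain ⟨ξ₀, hξ₀⟩ := hbelowne n hn
    have e : s.bipartiteBelow r n = Finset.univ.filter fun ξ => r ξ n := by
      ext ξ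
      simp only [Finset.bipartiteBelow, Finset.mem_filter, Finset.mem_univ, true_and, hs, Finset.mem_erase,
        and_true, and_iff_right_iff_imp]
      intro hr hξ
      subst hξ
      exact Finset.ne_of_mem_erase hn (Subtype.ext (hzero _ ((hr.symm.trans (map_one _)))))
    rw [e, ← Fintype.card_subtype, ← Nat.card_eq_fintype_card]
    refine Nat.card_congr
      { toFun := fun ξ => ⟨ξ.1 * ξ₀⁻¹, by
          rw [MonoidHom.mem_ker, map_mul, map_inv, show ψ n ξ.1 = f (n : V) from ξ.2,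
            show ψ n ξ₀ = f (n : V) from hξ₀, mul_inv_cancel]⟩
        invFun := fun k => ⟨k.1 * ξ₀, by
          show ψ n (k.1 * ξ₀) = f (n : V)
          rw [map_mul, MonoidHom.mem_ker.1 k.2, one_mul]; exact hξ₀⟩
        left_inv := fun ξ => Subtype.ext (inv_mul_cancel_right _ _)
        right_inv := fun k => Subtype.ext (mul_inv_cancel_right _ _) }
  have hkereq : ∀ n ∈ t, ∀ n' ∈ t, Nat.card (ψ n).ker = Nat.card (ψ n').ker := by
    have hrange : ∀ n ∈ t, ∀ n' ∈ t, Nat.card (ψ n).range ≤ Nat.card (ψ n').range := fun n hn n' hn' => by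
      have hn1 : (n : V) ≠ 1 := fun e => Finset.ne_of_mem_erase hn (Subtype.ext e)
      have hn1' : (n' : V) ≠ 1 := fun e => Finset.ne_of_mem_erase hn' (Subtype.ext e)
      obtain ⟨σ, τ, hσ, hτ, hg, -⟩ := htrans (f n) (f n') (fun e => hn1 (hzero _ e)) (fun e => hn1' (hzero _ e))
      have hσn : σ n = (n' : V) := huniq _ _ (memW.2 fun h => by
          obtain ⟨g, hg'⟩ := hg h
          rw [hg', memW.1 n.2 g]) n'.2 (fun e => hn1 (σ.injective (e.trans (map_one σ).symm)))
          (by rw [hσ, hτ])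
      refine Nat.card_le_card_of_injective (fun a => ⟨τ a.1, ?_⟩) fun a b hab =>
        Subtype.ext (τ.injective (congrArg Subtype.val hab))
      obtain ⟨ξ, hξ⟩ := a.2
      obtain ⟨v, rfl⟩ := QuotientGroup.mk_surjective ξ
      refine ⟨(σ v : V), ?_⟩
      rw [hψ, ← hσn, ← hξ, hψ]
      simp only [defect]
      rw [← map_mul σ, hσ, hσ, hσ, map_mul, map_mul]
    intro n hn n' hn'
    have e : ∀ m : W, Nat.card (ψ m).range * Nat.card (ψ m).ker = q := fun m => by
      rw [← hIq, Subgroup.card_eq_card_quotient_mul_card_subgroup (ψ m).ker,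
        Nat.card_congr (QuotientGroup.quotientKerEquivRange (ψ m)).toEquiv]
    refine Nat.eq_of_mul_eq_mul_left (Nat.card_pos (α := (ψ n).range)) ?_
    rw [e n, le_antisymm (hrange n hn n' hn') (hrange n' hn' n hn), e n']
  have htne : t.Nonempty := Finset.card_pos.1 (by rw [ht_card]; omega)
  obtain ⟨n₀, hn₀⟩ := htne
  have hsum : ∑ ξ ∈ s, (t.bipartiteAbove r ξ).card = (q - 1) * Nat.card (ψ n₀).ker := by
    rw [Finset.sum_card_bipartiteAbove_eq_sum_card_bipartiteBelow,
      Finset.sum_congr rfl fun n hn => (hbelow n hn).trans (hkereq n hn n₀ hn₀), Finset.sum_const, ht_card,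
      smul_eq_mul]
  have hq2 : ∃ k, q = 2 ^ k := by
    obtain ⟨k, hk⟩ := card_two_pow_of_sq hV W
    exact ⟨k, by rw [← hWq, hk]⟩
  have hker1 : Nat.card (ψ n₀).ker = 1 := by
    obtain ⟨k, hk⟩ := card_two_pow_of_sq (V := V ⧸ W) (fun ξ => by
      induction ξ using QuotientGroup.induction_on with
      | H v => rw [← QuotientGroup.mk_mul, hV]; rfl) (ψ n₀).ker
    have hsodd : Odd (∑ ξ ∈ s, (t.bipartiteAbove r ξ).card) := by
      rw [Finset.odd_sum_iff_odd_card_odd, Finset.filter_true_of_mem hodd, hs_card]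
      obtain ⟨k', hk'⟩ := hq2
      rcases k' with - | k'
      · omega
      · exact ⟨2 ^ k' - 1, by rw [hk', pow_succ]; have := Nat.one_le_two_pow (n := k'); omega⟩
    rw [hsum, Nat.odd_mul] at hsodd
    rcases k with - | k
    · rw [hk, pow_zero]
    · exact absurd hsodd.2 (by rw [hk, pow_succ]; simp [parity_simps])
  have hone : ∀ ξ ∈ s, Nat.card (K ξ) = 2 := by
    intro ξ hξ
    rw [← habove]
    by_contra hne
    have h2 : 2 ≤ (t.bipartiteAbove r ξ).card := by
      obtain ⟨k, hk⟩ := hodd ξ hξ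
      omega
    have hlt : ∑ η ∈ s, 1 < ∑ η ∈ s, (t.bipartiteAbove r η).card :=
      Finset.sum_lt_sum (fun η hη => (hodd η hη).pos) ⟨ξ, hξ, h2⟩
    rw [Finset.sum_const, hs_card, hsum, hker1, smul_eq_mul] at hlt
    omega
  -- injectivity of the movements
  have hmul : ∀ g a b, ρ g (a * b) * (a * b) = (ρ g a * a) * (ρ g b * b) := fun g a b => by
    rw [map_mul, mul_assoc, mul_assoc]; congr 1; rw [← mul_assoc, hc (ρ g b) a, mul_assoc]
  have hinj : ∀ g, ρ g ≠ 1 → ∀ v, v ∉ W → ρ g v * v ≠ 1 := by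
    intro g hg k hk hk1
    obtain ⟨v, hv⟩ : ∃ v, ρ g v ≠ v := by
      by_contra hall
      push Not at hall
      exact hg (MulEquiv.ext hall)
    have hn : ρ g v * v ≠ 1 := fun e => hv (by rw [eq_inv_of_mul_eq_one_left e, hinvV])
    have hnt : (⟨ρ g v * v, hN g v⟩ : W) ∈ t :=
      Finset.mem_erase.2 ⟨fun e => hn (congrArg Subtype.val e), Finset.mem_univ _⟩
    have hc1 : (s.bipartiteBelow r ⟨ρ g v * v, hN g v⟩).card = 1 := by
      rw [hbelow _ hnt, hkereq _ hnt n₀ hn₀, hker1]
    have hin : ∀ y : V, ρ g y * y = ρ g v * v →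
        (y : V ⧸ W) ∈ s.bipartiteBelow r ⟨ρ g v * v, hN g v⟩ := by
      intro y hy
      refine Finset.mem_filter.2 ⟨Finset.mem_erase.2 ⟨fun e => ?_, Finset.mem_univ _⟩, ?_⟩
      · have hyW := memW.1 ((QuotientGroup.eq_one_iff y).1 e) g
        rw [hyW, hV] at hy
        exact hn hy.symm
      · have := hmem g y
        rwa [show (⟨ρ g y * y, hN g y⟩ : W) = ⟨ρ g v * v, hN g v⟩ from Subtype.ext hy] at this
    have e := Finset.card_le_one.1 hc1.le _ (hin v rfl) _ (hin (v * k) (by rw [hmul, hk1, mul_one]))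
    rw [QuotientGroup.eq, hinvV, ← mul_assoc, hV, one_mul] at e
    exact hk e
  obtain ⟨v, hv⟩ : ∃ v, v ∉ W := by
    by_contra hall
    push Not at hall
    exact hWne ((Subgroup.eq_top_iff' W).2 hall)
  have hvs : (v : V ⧸ W) ∈ s :=
    Finset.mem_erase.2 ⟨fun e => hv ((QuotientGroup.eq_one_iff v).1 e), Finset.mem_univ _⟩
  have hsame : ∀ g h, ρ g ≠ 1 → ρ h ≠ 1 → ρ g v * v = ρ h v * v := by
    intro g h hg hh
    by_contra hne
    have h3 : 3 ≤ Nat.card (K (v : V ⧸ W)) := by
      rw [Nat.card_eq_fintype_card]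
      refine le_trans (le_of_eq ?_) (Finset.card_le_univ
        ({1, ⟨_, hmem g v⟩, ⟨_, hmem h v⟩} : Finset (K (v : V ⧸ W))))
      rw [Finset.card_insert_of_notMem, Finset.card_pair]
      · intro e
        exact hne (congrArg Subtype.val (congrArg Subtype.val e))
      · simp only [Finset.mem_insert, Finset.mem_singleton, not_or]
        exact ⟨fun e => hinj g hg v hv (congrArg Subtype.val (congrArg Subtype.val e)).symm,
          fun e => hinj h hh v hv (congrArg Subtype.val (congrArg Subtype.val e)).symm⟩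
    rw [hone _ hvs] at h3
    omega
  have hfix := hsame g₁ g₂ hg₁ hg₂
  refine hinj _ hg₁₂ v hv ?_
  have e2 : ρ g₂ v = (ρ g₂ v * v) * v := by rw [mul_assoc, hV, mul_one]
  rw [map_mul, MulAut.mul_apply, e2, map_mul, memW.1 (hN g₂ v) g₁, mul_assoc, ← hfix, hV]

end CfsgLib.SECrit.Shape
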